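import Mathlib.GroupTheory.Sylow
import Mathlib.GroupTheory.Commutator.Basic
import Mathlib.GroupTheory.Abelianization.Defs

/-!
Groups whose Sylow `p`-subgroups have all squares in the derived subgroup.
-/

set_option autoImplicit false

namespace CfsgLib.SqDerived

variable {G H : Type*} [Group G] [Group H]

/-- The squares of `U` lie in `⁅U, U⁆`. -/
def SqIn (U : Subgroup G) : Prop := ∀ u ∈ U, u * u ∈ ⁅U, U⁆

/-- Every Sylow 2-subgroup has its squares in its derived subgroup. -/
def Good (G : Type*) [Group G] : Prop := ∀ P : Sylow 2 G, SqIn (P : Subgroup G)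

/-- The elements of `U` with square in `⁅U, U⁆` form a subgroup. -/
theorem sqIn_of_closure (U : Subgroup G) (h : U ≤ Subgroup.closure {u | u ∈ U ∧ u * u ∈ ⁅U, U⁆}) :
    SqIn U := by
  intro u hu
  set V := (⁅U, U⁆).subgroupOf U
  have hcomm : commutator U = V := by
    refine Subgroup.map_injective U.subtype_injective ?_
    rw [commutator_def, Subgroup.map_commutator, ← MonoidHom.range_eq_map, U.range_subtype,
      Subgroup.map_subgroupOf_eq_of_le (Subgroup.commutator_le_self U)]
  have key : ∀ x ∈ Subgroup.closure {u | u ∈ U ∧ u * u ∈ ⁅U, U⁆},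
      ∃ hx : x ∈ U, Abelianization.of (⟨x, hx⟩ : U) * Abelianization.of (⟨x, hx⟩ : U) = 1 := by
    intro x hx
    induction hx using Subgroup.closure_induction with
    | mem x hx =>
      refine ⟨hx.1, ?_⟩
      rw [← map_mul]
      refine (QuotientGroup.eq_one_iff _).2 ?_
      rw [hcomm]
      exact hx.2
    | one => exact ⟨one_mem U, by rw [show (⟨(1 : G), one_mem U⟩ : U) = 1 from rfl, map_one, mul_one]⟩
    | mul x y _ _ ihx ihy =>
      obtain ⟨hx, ex⟩ := ihx
      obtain ⟨hy, ey⟩ := ihy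
      refine ⟨mul_mem hx hy, ?_⟩
      rw [show (⟨x * y, mul_mem hx hy⟩ : U) = ⟨x, hx⟩ * ⟨y, hy⟩ from rfl, map_mul, mul_mul_mul_comm,
        ex, ey, mul_one]
    | inv x _ ihx =>
      obtain ⟨hx, ex⟩ := ihx
      refine ⟨inv_mem hx, ?_⟩
      rw [show (⟨x⁻¹, inv_mem hx⟩ : U) = ⟨x, hx⟩⁻¹ from rfl, map_inv, ← mul_inv, ex, inv_one]
  obtain ⟨hu', e⟩ := key u (h hu)
  rw [← map_mul] at e
  have h1 := (QuotientGroup.eq_one_iff _).1 e
  rw [hcomm] at h1
  exact h1

/-- A subgroup generated by involutions. -/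
theorem sqIn_of_involutions (U : Subgroup G)
    (h : U ≤ Subgroup.closure {u | u ∈ U ∧ u * u = 1}) : SqIn U :=
  sqIn_of_closure U (h.trans (Subgroup.closure_mono fun u hu => ⟨hu.1, by rw [hu.2]; exact one_mem _⟩))

theorem SqIn.map {U : Subgroup G} (h : SqIn U) (f : G →* H) : SqIn (U.map f) := by
  rintro _ ⟨u, hu, rfl⟩
  rw [← Subgroup.map_commutator, ← map_mul]
  exact Subgroup.mem_map_of_mem f (h u hu)

theorem SqIn.subgroupOf {U K : Subgroup G} (h : SqIn U) (hle : U ≤ K) : SqIn (U.subgroupOf K) := by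
  intro u hu
  have h1 := h _ (Subgroup.mem_subgroupOf.1 hu)
  rw [show ⁅U, U⁆ = (⁅U.subgroupOf K, U.subgroupOf K⁆).map K.subtype by
    rw [Subgroup.map_commutator, Subgroup.map_subgroupOf_eq_of_le hle]] at h1
  obtain ⟨v, hv, e⟩ := h1
  have : v = u * u := Subtype.ext e
  exact this ▸ hv

/-- One Sylow subgroup is enough. -/
theorem good_of_sylow [Finite G] (S : Sylow 2 G) (h : SqIn (S : Subgroup G)) : Good G := by
  intro P
  obtain ⟨g, rfl⟩ := MulAction.exists_smul_eq G S P
  exact h.map (MulAut.conj g).toMonoidHom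

theorem good_of_index [Finite G] {U : Subgroup G} (hU : IsPGroup 2 U) (hidx : ¬ 2 ∣ U.index)
    (h : SqIn U) : Good G :=
  good_of_sylow (hU.toSylow hidx) (by rwa [IsPGroup.toSylow_coe hU hidx])

theorem Good.of_surjective [Finite G] (h : Good G) (f : G →* H) (hf : Function.Surjective f) :
    Good H := by
  haveI : Finite H := Finite.of_surjective f hf
  haveI : Fact (Nat.Prime 2) := ⟨Nat.prime_two⟩
  intro P
  obtain ⟨Q, rfl⟩ := Sylow.mapSurjective_surjective hf 2 P
  exact (h Q).map f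

theorem Good.of_mulEquiv [Finite G] (h : Good G) (e : G ≃* H) : Good H :=
  h.of_surjective e.toMonoidHom e.surjective

theorem Good.result (h : Good G) (P : Sylow 2 G) :
    ∀ x : (P : Subgroup G), x ^ 2 ∈ commutator (P : Subgroup G) := by
  intro x
  have h1 := h P x.1 x.2
  rw [← (P : Subgroup G).map_subtype_commutator] at h1
  obtain ⟨v, hv, e⟩ := h1
  have : v = x ^ 2 := Subtype.ext (by rw [SubmonoidClass.coe_pow, sq]; exact e)
  exact this ▸ hv

end CfsgLib.SqDerived
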