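import Cfsg.Agent.Lib.SqDerived.Basic
import Cfsg.Agent.Lib.KnownA.TwistOut.Inst
import Mathlib.Algebra.CharP.Two

/-!
The unipotent subgroups of the Chevalley groups and of the groups ²E₆, ³D₄ in characteristic two
are generated by involutions.
-/

set_option autoImplicit false

namespace CfsgLib.SqDerived

open Cfsg.Lie CfsgLib.Chev CfsgLib.KnownA.TwistOut

variable {D : ChevalleyDatum} {F : Type*} [Field F] [CharP F 2]

theorem xG_sq (g : CfsgLib.Chev.Good D) (r : ℕ) (t : F) : g.xG r t * g.xG r t = 1 := by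
  rw [g.xG_add, CharTwo.add_self_eq_zero, g.xG_zero]

theorem chev_good [Fintype F] (g : CfsgLib.Chev.Good D) (hc : HasComm D) :
    CfsgLib.SqDerived.Good ↥(D.group F) := by
  haveI : Fact (Nat.Prime 2) := ⟨Nat.prime_two⟩
  obtain ⟨P, hP⟩ := CfsgLib.KnownA.Chev.exists_sylow_posUnipotent g hc 2 (F := F)
  refine good_of_sylow P (hP ▸ SqIn.subgroupOf ?_ g.posUnipotent_le_group)
  refine sqIn_of_involutions _ ?_
  conv_lhs => rw [g.posUnipotent_eq]
  refine g.rootGen_le fun r hS hr t => Subgroup.subset_closure ⟨?_, xG_sq g r t⟩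
  rw [g.posUnipotent_eq]
  exact g.mem_rootGen hr hS t

theorem fixedMinus_gen {g : CfsgLib.Chev.Good D} {T : Twist g F} (S : TwistSys T) (hc : HasComm D)
    (h2 : ∀ o, ∀ a ∈ T.fixedMinus (S.w o), a * a = 1)
    {v : Equiv.Perm (Fin D.nroots)} (hv : v ∈ T.weylFix) :
    T.fixedMinus v ≤ Subgroup.closure {x | x ∈ T.fixedMinus v ∧ x * x = 1} := by
  refine S.weylFix_induction
    (P := fun v => T.fixedMinus v ≤ Subgroup.closure {x | x ∈ T.fixedMinus v ∧ x * x = 1}) ?_ ?_ hv
  · intro x hx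
    have : x ∈ D.borelSubgroup F ⊓ D.negUnipotent F := by
      refine Subgroup.mem_inf.2 ⟨Subgroup.mem_sup_left (g.minus_le_pos _ hx.2), ?_⟩
      simpa using g.conj_minus_le g.acts_one hx.2
    rw [g.borel_inf_neg, Subgroup.mem_bot] at this
    rw [this]; exact one_mem _
  · intro o v' hv' ih hpos x hx
    obtain ⟨m, hm, hmm, hma⟩ := S.exists_rep hv'
    obtain ⟨e, he⟩ := S.fixedMinus_split hc o hv' hpos hm hmm hma
    obtain ⟨p, hp⟩ := e.surjective ⟨x, hx⟩
    rw [show x = (e p : GL D.Idx F) by rw [hp], he]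
    refine mul_mem (Subgroup.subset_closure ⟨?_, ?_⟩) (Subgroup.closure_mono ?_ (ih p.2.2))
    · have h1 := (e (p.1, 1)).2
      rw [he] at h1
      simpa using h1
    · rw [show m⁻¹ * p.1 * m * (m⁻¹ * p.1 * m) =
        m⁻¹ * ((p.1 : GL D.Idx F) * p.1) * m by group, h2 o _ p.1.2, mul_one, inv_mul_cancel]
    · rintro y ⟨hy, hy2⟩
      refine ⟨?_, hy2⟩
      have h1 := (e (1, ⟨y, hy⟩)).2
      rw [he] at h1
      simpa using h1

theorem a1_good [Fintype F] {g : CfsgLib.Chev.Good D} {A : A1Setup g F} (W : TwData A) :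
    CfsgLib.SqDerived.Good ↥A.G1 := by
  haveI : Fact (Nat.Prime 2) := ⟨Nat.prime_two⟩
  haveI : Finite ↥A.G1 :=
    Finite.of_injective (fun y : ↥A.G1 => (y : GL D.Idx F)) Subtype.val_injective
  obtain ⟨P, hP⟩ := W.exists_sylow 2
  refine good_of_sylow P ?_
  rw [hP, U1, ← Subgroup.inf_subgroupOf_right]
  refine SqIn.subgroupOf (sqIn_of_involutions _ ?_) inf_le_right
  obtain ⟨w₀, hw₀, hms, -⟩ := A.T.exists_longest_fixed
  have e : D.posUnipotent F ⊓ A.G1 = A.T.fixedMinus w₀ := by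
    rw [show A.G1 = (A.sys W.hc).G1 from rfl, (A.sys W.hc).pos_inf_eq W.hc, Twist.fixedMinus,
      inf_comm, g.posUnipotent_eq, hms]
    congr 1
    exact le_antisymm (g.rootGen_mono fun r hr hr' => ⟨hr', hr⟩) (g.rootGen_mono fun r hr _ => hr.2)
  rw [e]
  refine fixedMinus_gen (A.sys W.hc) W.hc (fun o a ha => ?_) hw₀
  obtain ⟨t, -, rfl⟩ := (A.mem_fixedMinus W.hc o).1 ha
  rw [g.xList_add (A.isOrbit o).nodup ((A.isOrbit o).commutes W.hc).1]
  have h0 : ∀ l : List (Fin D.rank), g.xList g.sroot l (t + t) = 1 := fun l => by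
    induction l with
    | nil => simp [Good.xList]
    | cons i l ih => rw [g.xList_cons, ih, Pi.add_apply, CharTwo.add_self_eq_zero, g.xG_zero, mul_one]
  exact h0 _

theorem twistedE6_good (K : Type*) [Field K] [Fintype K] [CharP K 2] {q : ℕ} (hq : IsPrimePow q)
    (hK : Fintype.card K = q ^ 2) : CfsgLib.SqDerived.Good ↥(twistedE6 K q) := by
  classical
  obtain ⟨A, hG, hφ, hS, hr, ho⟩ := exists_setupE6 K hq hK
  have hc : HasComm chevE6 := hasComm_of_mem (by simp)
  have hsym := coSym_of_check A checksE6 structChecksE6 rhoE6_ok hS coSymE6_ok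
  have hfac : ∀ o' : Fin 4, baseE6 o' ∈ orbE6 o' ∧
      (A.S.pi : Fin chevE6.rank → Fin chevE6.rank)^[lenE6 o'] (baseE6 o') = baseE6 o' ∧
      (∀ i ∈ orbE6 o', ∃ m < lenE6 o',
        (A.S.pi : Fin chevE6.rank → Fin chevE6.rank)^[m] (baseE6 o') = i) ∧
      ∀ m < lenE6 o', ∀ m' < lenE6 o',
        (A.S.pi : Fin chevE6.rank → Fin chevE6.rank)^[m] (baseE6 o') =
          (A.S.pi : Fin chevE6.rank → Fin chevE6.rank)^[m'] (baseE6 o') → m = m' := by
    rw [hS]; decide +kernel
  have hlen : ∀ o' : Fin 4, lenE6 o' = 1 ∨ lenE6 o' = 2 := by decide +kernel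
  let W : TwData A :=
    { b := fun o => baseE6 (Fin.cast hr o), k := fun o => lenE6 (Fin.cast hr o), q := q
      hc := hc
      hch := CfsgLib.KnownA.ChevChar.chainsOK_E6
      hb := fun o => by rw [ho]; exact (hfac _).1
      hk := fun o => by rcases hlen (Fin.cast hr o) with h | h <;> omega
      hper := fun o => (hfac _).2.1
      hall := fun o j hj => (hfac _).2.2.1 j (by rw [← ho]; exact hj)
      hlt := fun o => (hfac _).2.2.2
      q_gt := hq.one_lt
      hcard := fun o => card_fix hq.one_lt hφ hK (hlen _)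
      sym := hsym
      diag := A.diag_inf_eq_of_odd hc hsym (e := 3) ⟨1, rfl⟩ (fun c h => kerE6 (c := e6 c) h) }
  exact hG ▸ a1_good W

theorem twistedD4_good (K : Type*) [Field K] [Fintype K] [CharP K 2] {q : ℕ} (hq : IsPrimePow q)
    (hK : Fintype.card K = q ^ 3) : CfsgLib.SqDerived.Good ↥(twistedD4 K q) := by
  classical
  obtain ⟨A, hG, hφ, hS, hr, ho⟩ := exists_setupD4 K hq hK
  have hc : HasComm chevD4 := hasComm_of_mem (by simp)
  have hsym := coSym_of_check A checksD4 structChecksD4 rhoD4_ok hS coSymD4_ok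
  have hfac : ∀ o' : Fin 2, baseD4 o' ∈ orbD4 o' ∧
      (A.S.pi : Fin chevD4.rank → Fin chevD4.rank)^[lenD4 o'] (baseD4 o') = baseD4 o' ∧
      (∀ i ∈ orbD4 o', ∃ m < lenD4 o',
        (A.S.pi : Fin chevD4.rank → Fin chevD4.rank)^[m] (baseD4 o') = i) ∧
      ∀ m < lenD4 o', ∀ m' < lenD4 o',
        (A.S.pi : Fin chevD4.rank → Fin chevD4.rank)^[m] (baseD4 o') =
          (A.S.pi : Fin chevD4.rank → Fin chevD4.rank)^[m'] (baseD4 o') → m = m' := by
    rw [hS]; decide +kernel
  have hlen : ∀ o' : Fin 2, lenD4 o' = 1 ∨ lenD4 o' = 3 := by decide +kernel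
  let W : TwData A :=
    { b := fun o => baseD4 (Fin.cast hr o), k := fun o => lenD4 (Fin.cast hr o), q := q
      hc := hc
      hch := CfsgLib.KnownA.ChevChar.chainsOK_D4
      hb := fun o => by rw [ho]; exact (hfac _).1
      hk := fun o => by rcases hlen (Fin.cast hr o) with h | h <;> omega
      hper := fun o => (hfac _).2.1
      hall := fun o j hj => (hfac _).2.2.1 j (by rw [← ho]; exact hj)
      hlt := fun o => (hfac _).2.2.2
      q_gt := hq.one_lt
      hcard := fun o => card_fix hq.one_lt hφ hK (hlen _)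
      sym := hsym
      diag := A.diag_inf_eq_of_free hc fun c h1 h2 => freeD4 A hS hφ h1 (A.σT_eq_iff.1 h2) }
  exact hG ▸ a1_good W

end CfsgLib.SqDerived
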