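import Cfsg.Agent.Lib.SqDerived.Basic
import Cfsg.Agent.Lib.KnownB.SUTwoGen
import Mathlib.Algebra.CharP.Two

/-!
Squares in the unitriangular subgroup of a symplectic or unitary group in characteristic two.
-/

set_option autoImplicit false

open scoped commutatorElement

namespace CfsgLib.SqDerived

open Matrix Fin CfsgLib.Fusion.FormGroup

variable {K : Type*} [Field K] [Fintype K] [CharP K 2] {N : ℕ} {D : Dat K N}

theorem formU_sqIn (hD : D.Good) : SqIn (U D) := by
  haveI : Fact (Nat.Prime 2) := ⟨Nat.prime_two⟩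
  have hdbl : ∀ X : Matrix (Fin N) (Fin N) K, X + X = 0 := fun X => by
    ext a b; exact CharTwo.add_self_eq_zero (X a b)
  refine sqIn_of_closure _ (U_le_of_roots 2 hD _ (fun i j g c h hlt hg => ?_)
    (fun i g c hlt hg => ?_) (fun i j g a b hj hlt hg => ?_))
  · refine Subgroup.subset_closure ⟨sh_mem_U hlt hg, ?_⟩
    obtain ⟨h1, h2, h3, h4⟩ := h
    have h1' : rev i ≠ rev j := fun h' => h1 (Fin.rev_injective h')
    have hsq : shM D i j c * shM D i j c = 0 := by
      simp only [shM, add_mul, mul_add, sne h1.symm, sne h4, sne h3.symm, sne h1', add_zero]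
    rw [show g * g = 1 from mat_inj (by
      rw [mat_mul, hg, mat_one, mul_add, mul_one, add_mul, one_mul, hsq, add_zero, add_assoc,
        hdbl, add_zero])]
    exact one_mem _
  · refine Subgroup.subset_closure ⟨lg_mem_U hlt hg, ?_⟩
    rw [show g * g = 1 from mat_inj (by
      rw [mat_mul, hg, mat_one, mul_add, mul_one, add_mul, one_mul, lgM, sne hlt.ne', add_zero, add_assoc,
        hdbl, add_zero])]
    exact one_mem _
  · refine Subgroup.subset_closure ⟨md_mem_U hj hlt hg, ?_⟩
    have hne : i ≠ j := hlt.ne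
    have h' : i ≠ rev i := fun e => hne (by
      have := hlt; have h2 : rev j < rev i := Fin.rev_lt_rev.2 hlt
      rw [hj, ← e] at h2; exact absurd h2 hlt.asymm)
    have h2 : rev i ≠ j := fun hh => hne (by rw [← Fin.rev_rev i, hh, hj])
    -- the partner
    obtain ⟨t, ht⟩ := (hD.mid j hj).2 1
    rw [map_one, one_mul] at ht
    obtain ⟨b', hb'⟩ := (hD.mid j hj).2 (a * t)
    obtain ⟨y, hy, -⟩ := exists_mdG 2 hD hj hne h' hb'
    set X := mdM D i j a b with hX
    set Y := mdM D i j (a * t) b' with hY
    set Z : Matrix (Fin N) (Fin N) K := single i (rev i) (a * -D.σ a) with hZ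
    have hmm : ∀ u v u' v' : K, mdM D i j u v * mdM D i j u' v' = single i (rev i) (u * -D.σ u') := by
      intro u v u' v'
      simp only [mdM, mul_add, add_mul, single_mul_single_same, sne hne.symm,
        sne h2, sne h'.symm, add_zero, zero_add]
    have hZm : ∀ u v : K, Z * mdM D i j u v = 0 := fun u v => by
      simp only [hZ, mdM, mul_add, sne h2, sne h'.symm, add_zero]
    have hXY : X * Y = Y * X + Z := by
      rw [hX, hY, hmm, hmm, hZ, ← Matrix.single_add]
      congr 1
      rw [map_mul]
      linear_combination (-(a * D.σ a)) * ht + (a * D.σ a * t + a * D.σ a) * CharTwo.two_eq_zero (R := K)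
    have hgg : mat g * mat g = 1 + Z := by
      rw [hg, mul_add, mul_one, add_mul, one_mul, hX, hmm, add_assoc (1 : Matrix (Fin N) (Fin N) K),
        ← add_assoc (mdM D i j a b), hdbl, zero_add]
    have hyg : mat y * mat g = 1 + X + Y + Y * X := by
      rw [hg, hy, mul_add, mul_one, add_mul, one_mul]; abel
    have key : g * y = g * g * (y * g) := by
      refine mat_inj ?_
      have hZX : Z * X = 0 := hZm a b
      have hZY : Z * Y = 0 := hZm (a * t) b'
      have hZYX : Z * (Y * X) = 0 := by rw [← mul_assoc, hZY, zero_mul]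
      rw [mat_mul, mat_mul, mat_mul, mat_mul, hgg, hyg, hg, hy]
      simp only [mul_add, add_mul, mul_one, one_mul, hXY, hZX, hZY, hZYX, add_zero]
      abel
    have e3 : g * g = ⁅g, y⁆ := by
      rw [commutatorElement_def, key]; group
    rw [e3]
    exact Subgroup.commutator_mem_commutator (md_mem_U hj hlt hg) (md_mem_U hj hlt hy)

theorem form_good (hD : D.Good) : Good D.group := by
  haveI : Fact (Nat.Prime 2) := ⟨Nat.prime_two⟩
  exact good_of_index (isPGroup_U hD)
    (CfsgLib.Fusion.not_dvd_index_of_pElements (isPGroup_U hD) fun g hg k hk => pElement_mem hD hg k hk)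
    (formU_sqIn hD)

theorem psp_good {F : Type*} [Field F] [Fintype F] [CharP F 2] {m : ℕ} (hm : 2 ≤ m)
    (hex : m = 2 → 3 ≤ Fintype.card F) : Good (Cfsg.PSp m F) := by
  haveI : Finite (Matrix.symplecticGroup (Fin m) F) := Finite.of_equiv _ (spEquiv m).symm.toEquiv
  exact ((form_good (spGood hm hex)).of_mulEquiv (spEquiv m).symm).of_surjective (QuotientGroup.mk' _)
    (QuotientGroup.mk'_surjective _)

theorem psu_good {F : Type*} [Field F] [Fintype F] [CharP F 2] {n q : ℕ}
    (hF : Fintype.card F = q ^ 2) (hn : 3 ≤ n) : Good (Cfsg.PSU n F q) := by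
  obtain ⟨σ, hσq, hσ⟩ := CfsgLib.Classical.SemiUnitary.exists_qFrobEquiv hF
  obtain ⟨e, -⟩ := CfsgLib.KnownB.SUTwoGen.exists_iso hF hn hσq hσ
  haveI : Finite (Cfsg.SU n F q) := Finite.of_equiv _ e.symm.toEquiv
  exact ((form_good (suGood hσ hn)).of_mulEquiv e.symm).of_surjective (QuotientGroup.mk' _)
    (QuotientGroup.mk'_surjective _)

end CfsgLib.SqDerived
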