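import Cfsg.Agent.Lib.SqDerived.Basic
import Cfsg.Agent.Lib.Fusion.PSLUnitri
import Mathlib.Algebra.CharP.Two

/-!
Squares in the unitriangular group in characteristic two.
-/

set_option autoImplicit false

namespace CfsgLib.SqDerived

open Matrix CfsgLib.Fusion

theorem psl_good {F : Type*} [Field F] [Fintype F] [CharP F 2] {n : ℕ} (hn : 0 < n) :
    Good (Matrix.ProjectiveSpecialLinearGroup (Fin n) F) := by
  haveI : Fact (Nat.Prime 2) := ⟨Nat.prime_two⟩
  refine Good.of_surjective ?_ (QuotientGroup.mk' _) (QuotientGroup.mk'_surjective _)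
  refine good_of_index (SLUni.isPGroup_U hn)
    (not_dvd_index_of_pElements (SLUni.isPGroup_U hn) fun g hg k hk => SLUni.pElement_mem hg k hk) ?_
  refine sqIn_of_involutions _ (SLUni.U_le_of_tv _ fun k l h c => Subgroup.subset_closure
    ⟨SLUni.tv_mem_U h c, Subtype.ext ?_⟩)
  rw [Matrix.SpecialLinearGroup.coe_mul, Matrix.SpecialLinearGroup.coe_one,
    Matrix.SpecialLinearGroup.transvection_coe, Matrix.mul_add, Matrix.mul_one, Matrix.add_mul,
    Matrix.one_mul, Matrix.single_mul_single_of_ne _ _ _ _ h.ne', add_zero, add_assoc,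
    ← Matrix.single_add, CharTwo.add_self_eq_zero, Matrix.single_zero, add_zero]

end CfsgLib.SqDerived
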