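import Cfsg.Agent.Lib.SqDerived.Basic
import Cfsg.Agent.Lib.KnownC.StOrthCases
import Mathlib.Algebra.CharP.Two

/-!
The unipotent radical of an orthogonal group in characteristic two is generated by involutions.
-/

set_option autoImplicit false
set_option linter.unusedSectionVars false

namespace CfsgLib.SqDerived

open Module CfsgLib.KnownC.Steinberg CfsgLib.Geom CfsgLib.Classical
open QuadraticMap (polar)

section Polar

variable {K V Γ : Type*} [Field K] [CharP K 2] [AddCommGroup V] [Module K V] [Group Γ] {m : ℕ}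
variable [FiniteDimensional K V] (P : Polar K V Γ (RingHom.id K) m)

/-- The movers along the frame are involutions. -/
theorem exists_move_sq {k : Fin m} {v : V} (hv : P.InO k v) :
    ∃ g ∈ P.Uk k.val, P.φ g (P.f k) = v ∧ g * g = 1 := by
  obtain ⟨g, hge, hgf, hg⟩ := P.move k v hv.1 hv.2.1
  have hperp : ∀ x, P.B (P.e k) x = 0 → P.φ g x - x ∈ Submodule.span K {P.e k} := fun x hx => by
    have := hg x
    rwa [hx, zero_smul, sub_zero] at this
  have hfix : ∀ x, P.B (P.e k) x = 0 → P.B x (P.f k) = 0 → P.B x v = 0 → P.φ g x = x := by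
    intro x h1 h2 h3
    obtain ⟨a, ha⟩ := Submodule.mem_span_singleton.1 (hperp x h1)
    have h := P.φ_B g x (P.f k)
    rw [hgf, eq_add_of_sub_eq' ha.symm, h2, map_add, map_smulₛₗ, LinearMap.add_apply,
      LinearMap.smul_apply, h3, hv.2.1, zero_add, smul_eq_mul, mul_one, map_eq_zero] at h
    rw [← sub_eq_zero, ← ha, h, zero_smul]
  refine ⟨g, ?_, hgf, ?_⟩
  · refine ⟨⟨fun j => ?_, fun x hx => ?_⟩, fun j hj => ?_⟩
    · rcases lt_trichotomy j.val k.val with hj | hj | hj
      · rw [hfix _ (P.B_ee k j) (by rw [P.B_ef, if_neg (Fin.ne_of_val_ne hj.ne)]) (hv.2.2 j hj).1,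
          sub_self]
        exact zero_mem _
      · rw [show j = k from Fin.ext hj, hge, sub_self]; exact zero_mem _
      · exact Submodule.span_le.2 (by rintro _ rfl; exact Polar.mem_first _ hj) (hperp _ (P.B_ee k j))
    · exact Submodule.span_le.2 (by rintro _ rfl; exact Polar.mem_first _ k.2) (hperp _ (hx k))
    · refine ⟨hfix _ (P.B_ee k j) ?_ (hv.2.2 j hj).1, hfix _ ?_ (P.B_ff j k) (hv.2.2 j hj).2⟩
      · rw [P.B_ef, if_neg (Fin.ne_of_val_ne hj.ne)]
      · rw [P.B_ef, if_neg (Fin.ne_of_val_ne hj.ne')]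
  · set w := v - P.f k with hw
    have hε : P.ε = 1 := by
      have h1 := P.swap (P.f k) (P.e k)
      rw [P.B_ef, if_pos rfl, P.B_fe, if_pos rfl, RingHom.id_apply] at h1
      refine CharTwo.add_eq_zero.1 (sq_eq_zero_iff.1 ?_)
      rw [CharTwo.add_sq, ← mul_one (P.ε ^ 2)]
      linear_combination -h1 + CharTwo.two_eq_zero (R := K)
    have hew : P.B (P.e k) w = 0 := by
      rw [hw, map_sub, hv.2.1, P.B_ef, if_pos rfl, sub_self]
    have hww : P.B w w = 0 := by
      have h1 : P.B v v = 0 := P.S_self v hv.1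
      rw [show v = P.f k + w by rw [hw]; abel] at h1
      simp only [map_add, LinearMap.add_apply, P.B_ff, zero_add] at h1
      have h2 := P.swap (P.f k) w
      rw [hε, one_mul, RingHom.id_apply] at h2
      linear_combination h1 - h2 - P.B (P.f k) w * CharTwo.two_eq_zero (R := K)
    have hgw : P.φ g w = w := by
      obtain ⟨a, ha⟩ := Submodule.mem_span_singleton.1 (hperp w hew)
      have h := P.φ_B g w (P.f k)
      rw [hgf, eq_add_of_sub_eq' ha.symm, show v = P.f k + w by rw [hw]; abel] at h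
      simp only [map_add, map_smulₛₗ, LinearMap.add_apply, LinearMap.smul_apply, smul_eq_mul,
        RingHom.id_apply, hww, hew, P.B_ef, if_pos, add_zero, mul_one] at h
      have : a = 0 := by linear_combination h
      rw [← sub_eq_zero, ← ha, this, zero_smul]
    refine P.φ_inj (LinearEquiv.ext fun x => ?_)
    rw [map_one, map_mul]
    show P.φ g (P.φ g x) = x
    obtain ⟨a, ha⟩ := Submodule.mem_span_singleton.1 (hg x)
    have hx : P.φ g x = x + P.B (P.e k) x • w + a • P.e k := by rw [ha]; abel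
    rw [hx, map_add, map_add, map_smul, map_smul, hgw, hge, hx]
    calc x + P.B (P.e k) x • w + a • P.e k + P.B (P.e k) x • w + a • P.e k
        = x + (P.B (P.e k) x + P.B (P.e k) x) • w + (a + a) • P.e k := by module
      _ = x := by rw [CharTwo.add_self_eq_zero, CharTwo.add_self_eq_zero, zero_smul, zero_smul,
          add_zero, add_zero]

theorem polarU_sqIn : SqIn P.U := by
  refine sqIn_of_involutions _ ?_
  set T := Subgroup.closure {u | u ∈ P.U ∧ u * u = 1}
  suffices h : ∀ r k : ℕ, k + r = m → P.Uk k ≤ T by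
    rw [← P.Uk_zero]; exact h m 0 (Nat.zero_add m)
  intro r
  induction r with
  | zero => intro k hk; rw [show k = m by omega, P.Uk_top]; exact bot_le
  | succ r ih =>
    intro k hk g hg
    let k' : Fin m := ⟨k, by omega⟩
    obtain ⟨s, hs, hsv, hs2⟩ := exists_move_sq P (P.inO_apply (k := k') hg)
    have h1 : s⁻¹ * g ∈ P.Uk k'.val := mul_mem (inv_mem hs) hg
    have h2 : s⁻¹ * g ∈ P.Uk (k + 1) := (P.mem_Uk_succ (k := k')).2 ⟨h1, P.Uk_fix_e h1, by
      rw [P.φ_mul_apply, ← hsv, P.φ_inv_apply]⟩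
    have h3 := mul_mem (Subgroup.subset_closure ⟨hs.1, hs2⟩ : s ∈ T) (ih (k + 1) (by omega) h2)
    rwa [mul_inv_cancel_left] at h3

end Polar

variable {F : Type*} [Field F] [Fintype F] [CharP F 2]

theorem orth_good_of_polar {ι : Type} [Fintype ι] [DecidableEq ι] (Q : QuadraticForm F (ι → F))
    (hQ : ∀ x, (∀ y, polar Q x y = 0) → x = 0) {m d : ℕ}
    (e f : Fin m → ι → F) (hQe : ∀ i, Q (e i) = 0) (hQf : ∀ i, Q (f i) = 0)
    (hee : ∀ i j, polar Q (e i) (e j) = 0) (hff : ∀ i j, polar Q (f i) (f j) = 0)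
    (hef : ∀ i j, polar Q (e i) (f j) = if i = j then 1 else 0)
    (han : ∀ x, (∀ i, polar Q (e i) x = 0) → Q x = 0 → x ∈ Submodule.span F (Set.range e))
    (h5 : 5 ≤ Fintype.card ι) (hn : Fintype.card ι = 2 * m + d)
    (hord : ∃ i N, Nat.card ↥(Cfsg.Omega F (⇑Q)) * i = Fintype.card F ^ (m * (m - 1) + d * m) * N ∧ ¬ 2 ∣ N) :
    Good (Cfsg.POmega F (⇑Q)) := by
  haveI : Fact (Nat.Prime 2) := ⟨Nat.prime_two⟩
  obtain ⟨P, hc⟩ := OrthCase.exists_polar Q hQ e f hQe hQf hee hff hef han (Or.inr (Or.inl h5))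
  haveI : Finite ((ι → F) ≃ₗ[F] (ι → F)) :=
    Finite.of_injective (fun g => (g : (ι → F) → (ι → F))) DFunLike.coe_injective
  haveI : Finite ↥(Cfsg.Omega F (⇑Q)) := Finite.of_injective _ P.φ_inj
  obtain ⟨i, N, hN, h2N⟩ := hord
  obtain ⟨a, -, hq⟩ := FiniteField.card F 2
  have hU : Nat.card P.U = Fintype.card F ^ (m * (m - 1) + d * m) := by
    rw [P.card_U (d := d) (by rw [Module.finrank_fintype_fun_eq_card, hn]), hc, one_pow, one_mul,
      Nat.card_eq_fintype_card]
  refine (good_of_index (IsPGroup.of_card (n := a * (m * (m - 1) + d * m))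
    (by rw [hU, hq, pow_mul])) (fun hd => h2N ?_) (polarU_sqIn P)).of_surjective
    (QuotientGroup.mk' _) (QuotientGroup.mk'_surjective _)
  rw [← Subgroup.card_mul_index P.U, hU, mul_assoc] at hN
  rw [← Nat.eq_of_mul_eq_mul_left (pow_pos Fintype.card_pos _) hN]
  exact dvd_mul_of_dvd_left hd _

theorem pomega_plus_good {m : ℕ} (hm : 4 ≤ m) : Good (Cfsg.POmega F (Cfsg.quadFormPlus m F)) := by
  classical
  haveI : Fact (Nat.Prime 2) := ⟨Nat.prime_two⟩
  obtain ⟨a, hp, hq⟩ := FiniteField.card F 2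
  obtain ⟨k, rfl⟩ : ∃ k, m = k + 1 := ⟨m - 1, by omega⟩
  have hcard : Fintype.card (Fin (k + 1) ⊕ Fin (k + 1)) = 2 * (k + 1) + 0 := by simp; omega
  have hC : ¬ 2 ∣ (Fintype.card F ^ (k + 1) - 1) * ∏ i ∈ Finset.range k, (Fintype.card F ^ (2 * (i + 1)) - 1) := by
    intro hd
    rcases hp.dvd_mul.1 hd with hd | hd
    · exact (not_dvd_pow_sub_one hp hq a.pos _ k.succ_pos).1 hd
    · exact not_dvd_prod hp _ _ (fun i _ => (not_dvd_pow_sub_one hp hq a.pos _ (by omega)).1) hd
  have hord := OrthCase.exists_hord (qfPlus (k + 1) F) (qfPlus_sep (k + 1)) 2 (by rw [hcard]; omega)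
    (by rw [Module.finrank_fintype_fun_eq_card, hcard]; exact Or.inr (by omega))
    hC ((card_qfPlus_isoms k).trans (mul_assoc _ _ _))
  rw [← qfPlus_coe]
  refine orth_good_of_polar (qfPlus (k + 1) F) (qfPlus_sep (k + 1)) (m := k + 1) (d := 0)
    (fun i => Pi.single (.inl i) 1) (fun i => Pi.single (.inr i) 1)
    (fun i => by simp [qfPlus_apply, Cfsg.quadFormPlus, Pi.single_apply])
    (fun i => by simp [qfPlus_apply, Cfsg.quadFormPlus, Pi.single_apply])
    (fun i j => by simp [polar_qfPlus, Pi.single_apply])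
    (fun i j => by simp [polar_qfPlus, Pi.single_apply])
    (fun i j => by simp [polar_qfPlus, Pi.single_apply, eq_comm]) ?_ (by rw [hcard]; omega) hcard ?_
  · intro x hx _
    have hy : ∀ i, x (.inr i) = 0 := fun i => by simpa [polar_qfPlus, Pi.single_apply] using hx i
    have : x = ∑ i, x (.inl i) • (Pi.single (.inl i) 1 : Fin (k + 1) ⊕ Fin (k + 1) → F) := by
      funext j
      rw [Finset.sum_apply]
      rcases j with j | j
      · simp [Pi.single_apply]
      · simp [hy]
    rw [this]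
    exact Submodule.sum_mem _ fun i _ => Submodule.smul_mem _ _ (Submodule.subset_span ⟨i, rfl⟩)
  · rwa [zero_mul, add_zero, Nat.add_sub_cancel]

theorem pomega_minus_good {m : ℕ} (hm : 3 ≤ m) {a b : F}
    (hab : ∀ z₁ z₂ : F, z₁ ^ 2 + a * z₁ * z₂ + b * z₂ ^ 2 = 0 → z₁ = 0 ∧ z₂ = 0) :
    Good (Cfsg.POmega F (Cfsg.quadFormMinus m F a b)) := by
  classical
  haveI : Fact (Nat.Prime 2) := ⟨Nat.prime_two⟩
  obtain ⟨f, hp, hq⟩ := FiniteField.card F 2
  have hcard : Fintype.card ((Fin m ⊕ Fin m) ⊕ Fin 2) = 2 * m + 2 := by simp; omega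
  have hC : ¬ 2 ∣ (Fintype.card F ^ (m + 1) + 1) * ∏ i ∈ Finset.range m, (Fintype.card F ^ (2 * (i + 1)) - 1) := by
    intro hd
    rcases hp.dvd_mul.1 hd with hd | hd
    · exact (not_dvd_pow_sub_one hp hq f.pos _ m.succ_pos).2 hd
    · exact not_dvd_prod hp _ _ (fun i _ => (not_dvd_pow_sub_one hp hq f.pos _ (by omega)).1) hd
  have hord := OrthCase.exists_hord (qfMinus m F a b) (qfMinus_sep m hab) 2 (by rw [hcard]; omega)
    (by rw [Module.finrank_fintype_fun_eq_card, hcard]; exact Or.inr (by omega))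
    hC ((card_qfMinus_isoms hab m).trans (mul_assoc _ _ _))
  rw [← qfMinus_coe]
  refine orth_good_of_polar (qfMinus m F a b) (qfMinus_sep m hab) (m := m) (d := 2)
    (fun i => Pi.single (.inl (.inl i)) 1) (fun i => Pi.single (.inl (.inr i)) 1)
    (fun i => by simp [qfMinus_apply, Cfsg.quadFormMinus, Pi.single_apply])
    (fun i => by simp [qfMinus_apply, Cfsg.quadFormMinus, Pi.single_apply])
    (fun i j => by simp [polar_qfMinus, Pi.single_apply])
    (fun i j => by simp [polar_qfMinus, Pi.single_apply])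
    (fun i j => by simp [polar_qfMinus, Pi.single_apply, eq_comm]) ?_ (by rw [hcard]; omega) hcard ?_
  · intro x hx hQx
    have hy : ∀ i, x (.inl (.inr i)) = 0 := fun i => by
      simpa [polar_qfMinus, Pi.single_apply] using hx i
    have h0 := hab (x (.inr 0)) (x (.inr 1)) (by simpa [qfMinus_apply, Cfsg.quadFormMinus, hy] using hQx)
    have : x = ∑ i, x (.inl (.inl i)) • (Pi.single (.inl (.inl i)) 1 : (Fin m ⊕ Fin m) ⊕ Fin 2 → F) := by
      funext j
      rw [Finset.sum_apply]
      rcases j with (j | j) | j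
      · simp [Pi.single_apply]
      · simp [hy]
      · fin_cases j <;> simp [h0.1, h0.2]
    rw [this]
    exact Submodule.sum_mem _ fun i _ => Submodule.smul_mem _ _ (Submodule.subset_span ⟨i, rfl⟩)
  · have hexp : m * (m - 1) + 2 * m = (m + 1) * m := by
      obtain ⟨k, rfl⟩ : ∃ k, m = k + 1 := ⟨m - 1, by omega⟩
      rw [Nat.add_sub_cancel]; ring
    rwa [hexp]

end CfsgLib.SqDerived
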