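import Cfsg.Agent.Lib.SqDerived.Basic
import Cfsg.Agent.Lib.Suzuki.Sylow
import Cfsg.Agent.Lib.Suzuki.Model
import Cfsg.Agent.Lib.Chev.LargeReeCoords

/-!
Squares in the Sylow 2-subgroups of the Suzuki groups and of ²F₄(q), `q ≥ 8`.
-/

set_option autoImplicit false

namespace CfsgLib.SqDerived

open scoped commutatorElement

section Field

variable {K : Type*} [Field K] [Finite K] [CharP K 2] (θ : K →+* K)

/-- Every `θ t * t` is an alternating value of `(a, b) ↦ θ a * b`. -/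
theorem exists_comm_value (hfix : ∀ x : K, θ (θ x) = x → x = 0 ∨ x = 1)
    (hs : ∃ s : K, s ≠ 0 ∧ s ≠ 1) (z : K) : ∃ a b : K, θ a * b + θ b * a = z := by
  obtain ⟨s, hs0, hs1⟩ := hs
  have hc : θ s + s ≠ 0 := fun h => by
    have h1 : θ s = s := CharTwo.add_eq_zero.1 h
    rcases hfix s (by rw [h1, h1]) with h2 | h2
    · exact hs0 h2
    · exact hs1 h2
  have hinj : Function.Injective fun x : K => θ x * x := by
    intro x y h
    simp only at h
    rcases eq_or_ne y 0 with rfl | hy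
    · rw [map_zero, zero_mul, mul_eq_zero, map_eq_zero, or_self] at h
      exact h
    · have hy' : θ y ≠ 0 := by simpa using hy
      have h1 : θ (x / y) * (x / y) = 1 := by
        rw [map_div₀]; field_simp; linear_combination h
      have h2 : θ (θ (x / y)) = x / y := by
        have h3 := congrArg θ h1
        rw [map_mul, map_one] at h3
        have hne : θ (x / y) ≠ 0 := left_ne_zero_of_mul_eq_one h1
        exact mul_right_cancel₀ hne (h3.trans (by rw [mul_comm]; exact h1.symm))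
      rcases hfix _ h2 with h3 | h3
      · rw [h3, map_zero, zero_mul] at h1; exact absurd h1 zero_ne_one
      · exact (div_eq_one_iff_eq hy).1 h3
  obtain ⟨l, hl⟩ := (Finite.surjective_of_injective hinj) (z / (θ s + s))
  refine ⟨l, l * s, ?_⟩
  simp only at hl
  rw [eq_div_iff hc] at hl
  rw [map_mul]
  linear_combination hl

/-- Squares in a rank-one class of type `B₂`. -/
theorem sq_eq_commutator {G : Type*} [Group G] (c : K → K → G)
    (hc : ∀ t u s w, c t u * c s w = c (t + s) (u + w + θ t * s))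
    (hfix : ∀ x : K, θ (θ x) = x → x = 0 ∨ x = 1) (hs : ∃ s : K, s ≠ 0 ∧ s ≠ 1) (t u : K) :
    ∃ a b, c t u * c t u = ⁅c a 0, c b 0⁆ := by
  obtain ⟨a, b, hab⟩ := exists_comm_value θ hfix hs (θ t * t)
  refine ⟨a, b, ?_⟩
  have key : c a 0 * c b 0 = c t u * c t u * (c b 0 * c a 0) := by
    rw [hc a, hc t, hc b, hc]
    congr 1
    · linear_combination (-t) * CharTwo.two_eq_zero (R := K)
    · simp only [CharTwo.add_self_eq_zero, map_zero, zero_mul, add_zero, zero_add]
      linear_combination hab - θ b * a * CharTwo.two_eq_zero (R := K)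
  rw [commutatorElement_def, key]
  group

theorem exists_ne_zero_ne_one [Fintype K] (h : 2 < Fintype.card K) : ∃ s : K, s ≠ 0 ∧ s ≠ 1 := by
  classical
  by_contra hcon
  push_neg at hcon
  have hsub : (Finset.univ : Finset K) ⊆ {0, 1} := fun s _ => by
    rcases eq_or_ne s 0 with h0 | h0
    · simp [h0]
    · simp [hcon s h0]
  have := (Finset.card_le_card hsub).trans Finset.card_le_two
  rw [Finset.card_univ] at this
  omega

end Field

theorem card_gt_two {m : ℕ} (hm : 1 ≤ m) : 2 < 2 ^ (2 * m + 1) :=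
  calc 2 < 2 ^ 3 := by norm_num
    _ ≤ 2 ^ (2 * m + 1) := Nat.pow_le_pow_right (by norm_num) (by omega)

section Suzuki

open CfsgLib.Suzuki

theorem suzuki_good {F : Type*} [Field F] [Fintype F] [CharP F 2] {m : ℕ} (hm : 1 ≤ m)
    (hF : Fintype.card F = 2 ^ (2 * m + 1)) : Good (Cfsg.Lie.Sz F (2 ^ (m + 1))) := by
  haveI : Finite (Cfsg.Sz F m) := Finite.of_equiv _ (szEquiv hm hF).symm.toEquiv
  set h := thSq_of_card hF
  refine (good_of_sylow (uSylow hm hF) ?_).of_mulEquiv (szEquiv hm hF)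
  rw [uSylow_coe]
  rintro _ ⟨a, b, rfl⟩
  obtain ⟨x, y, hxy⟩ := sq_eq_commutator (th m) (fun t u => tG h t u)
    (fun t u s w => by rw [tG_mul, add_comm s t, add_comm w u])
    (fun x hx => by
      rw [h] at hx
      rcases eq_or_ne x 0 with h0 | h0
      · exact Or.inl h0
      · exact Or.inr (mul_right_cancel₀ h0 (by linear_combination hx)))
    (exists_ne_zero_ne_one (hF ▸ card_gt_two hm)) a b
  rw [hxy]
  exact Subgroup.commutator_mem_commutator ⟨x, 0, rfl⟩ ⟨y, 0, rfl⟩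

end Suzuki

section LargeRee

open Cfsg.Lie CfsgLib.Chev CfsgLib.Chev.LargeReeUni CfsgLib.Chev.SetupF4

variable {K : Type*} [Field K] [CharP K 2]

theorem two_involutions {r s : ℕ} (h : ∀ t u : K, goodF4.xG s u * goodF4.xG r t = goodF4.xG r t * goodF4.xG s u)
    (t u : K) : goodF4.xG r t * goodF4.xG s u * (goodF4.xG r t * goodF4.xG s u) = 1 := by
  calc goodF4.xG r t * goodF4.xG s u * (goodF4.xG r t * goodF4.xG s u)
      = goodF4.xG r t * (goodF4.xG s u * goodF4.xG r t) * goodF4.xG s u := by simp only [mul_assoc]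
    _ = 1 := by
      rw [h, ← mul_assoc, goodF4.xG_add, CharTwo.add_self_eq_zero, goodF4.xG_zero, one_mul,
        goodF4.xG_add, CharTwo.add_self_eq_zero, goodF4.xG_zero]

variable [Fintype K] {m : ℕ}

theorem class_rules (S : SetupF4 K m) :
    (∀ t u s w, c1 S.th t u * c1 S.th s w = c1 S.th (t + s) (u + w + S.th t * s)) ∧
    (∀ t u s w, c3 S.th t u * c3 S.th s w = c3 S.th (t + s) (u + w + S.th t * s)) ∧
    (∀ t u s w, c5 S.th t u * c5 S.th s w = c5 S.th (t + s) (u + w + S.th t * s)) ∧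
    (∀ t u s w, c7 S.th t u * c7 S.th s w = c7 S.th (t + s) (u + w + S.th t * s)) := by
  have z0 : p0 S.th 0 = 1 := by simp [p0, goodF4.xG_zero]
  have z1 : c1 S.th 0 0 = 1 := by simp [c1, goodF4.xG_zero]
  have z2 : p2 S.th 0 = 1 := by simp [p2, goodF4.xG_zero]
  have z3 : c3 S.th 0 0 = 1 := by simp [c3, goodF4.xG_zero]
  have z4 : p4 S.th 0 = 1 := by simp [p4, goodF4.xG_zero]
  have z5 : c5 S.th 0 0 = 1 := by simp [c5, goodF4.xG_zero]
  have z6 : p6 S.th 0 = 1 := by simp [p6, goodF4.xG_zero]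
  have mul : ∀ v w : V K, W S.th v * W S.th w = W S.th (V.mul S.th v w) := fun v w => by
    simpa using W_mul_X S.th S.th_sq v w 1
  have h1 : ∀ t u s w, c1 S.th t u * c1 S.th s w = c1 S.th (t + s) (u + w + S.th t * s) := by
    intro t u s w
    have h := mul ⟨0, t, u, 0, 0, 0, 0, 0, 0, 0⟩ ⟨0, s, w, 0, 0, 0, 0, 0, 0, 0⟩
    simp only [W, V.mul, z0, z2, z3, z4, z5, z6, map_zero, zero_mul, mul_zero, add_zero,
      zero_add, one_mul, mul_one, zero_pow two_ne_zero] at h
    rw [h]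
    congr 1
    ring
  have h5 : ∀ t u s w, c5 S.th t u * c5 S.th s w = c5 S.th (t + s) (u + w + S.th t * s) := by
    intro t u s w
    have h := mul ⟨0, 0, 0, 0, 0, 0, 0, t, u, 0⟩ ⟨0, 0, 0, 0, 0, 0, 0, s, w, 0⟩
    simp only [W, V.mul, z0, z1, z2, z3, z4, z6, map_zero, zero_mul, mul_zero, add_zero,
      zero_add, one_mul, mul_one, zero_pow two_ne_zero] at h
    rw [h]
    congr 1
    ring
  have h3 : ∀ t u s w, c3 S.th t u * c3 S.th s w = c3 S.th (t + s) (u + w + S.th t * s) := by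
    intro t u s w
    have h := mul ⟨0, 0, 0, 0, t, u, 0, 0, 0, 0⟩ ⟨0, 0, 0, 0, s, w, 0, 0, 0, 0⟩
    simp only [W, V.mul, z0, z1, z2, z4, z5, z6, map_zero, zero_mul, mul_zero, add_zero,
      zero_add, one_mul, mul_one, zero_pow two_ne_zero] at h
    rw [h]
    congr 1
    ring
  refine ⟨h1, h3, h5, fun t u s w => ?_⟩
  obtain ⟨⟨-, a1, -⟩, -⟩ := S.refl_conj
  rw [← a1, ← a1, ← a1, ← h1]
  group

theorem twistedF4_good (hm : 1 ≤ m) (hK : Fintype.card K = 2 ^ (2 * m + 1)) :
    CfsgLib.SqDerived.Good ↥(twistedF4 K (2 ^ m)) := by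
  obtain ⟨S⟩ := exists_setupF4 K hK
  obtain ⟨P, hP⟩ := S.exists_sylow_two
  haveI : Finite ↥(twistedF4 K (2 ^ m)) :=
    Finite.of_injective (fun y : ↥(twistedF4 K (2 ^ m)) => (y : GL chevF4.Idx K)) Subtype.val_injective
  refine good_of_sylow P ?_
  rw [hP]
  refine SqIn.subgroupOf (sqIn_of_closure S.UG fun x hx => ?_) inf_le_right
  obtain ⟨g0, g1, g2, g3, g4, g5, g6, g7⟩ := S.rootgroups_mem
  obtain ⟨r1, r3, r5, r7⟩ := class_rules S
  have hfix : ∀ x : K, S.th (S.th x) = x → x = 0 ∨ x = 1 := fun x hx => by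
    have h := S.th_sq x
    rw [hx] at h
    rcases eq_or_ne x 0 with h0 | h0
    · exact Or.inl h0
    · exact Or.inr (mul_right_cancel₀ h0 (by linear_combination h))
  have hs := exists_ne_zero_ne_one (hK ▸ card_gt_two hm)
  have hclass : ∀ (c : K → K → GL chevF4.Idx K), (∀ t u, c t u ∈ S.UG) →
      (∀ t u s w, c t u * c s w = c (t + s) (u + w + S.th t * s)) →
      ∀ t u, c t u ∈ Subgroup.closure {y | y ∈ S.UG ∧ y * y ∈ ⁅S.UG, S.UG⁆} := by
    intro c hc hr t u
    refine Subgroup.subset_closure ⟨hc t u, ?_⟩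
    obtain ⟨a, b, e⟩ := sq_eq_commutator S.th c hr hfix hs t u
    rw [e]
    exact Subgroup.commutator_mem_commutator (hc a 0) (hc b 0)
  have hpair : ∀ (p : K → GL chevF4.Idx K), (∀ t, p t ∈ S.UG) → (∀ t, p t * p t = 1) →
      ∀ t, p t ∈ Subgroup.closure {y | y ∈ S.UG ∧ y * y ∈ ⁅S.UG, S.UG⁆} := fun p hp h2 t =>
    Subgroup.subset_closure ⟨hp t, by rw [h2]; exact one_mem _⟩
  obtain ⟨v, b, B, rfl⟩ := S.exists_elt hx
  have k0 := hpair _ g0 (fun t => two_involutions (fun t u => by simpa using sw24_33 u t 1) _ _) v.t0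
  have k2 := hpair _ g2 (fun t => two_involutions (fun t u => by simpa using sw43_38 u t 1) _ _) v.t2
  have k4 := hpair _ g4 (fun t => two_involutions (fun t u => by simpa using sw45_39 u t 1) _ _) v.t4
  have k6 := hpair _ g6 (fun t => two_involutions (fun t u => by simpa using sw32_37 u t 1) _ _) v.t6
  exact mul_mem (mul_mem k0 (mul_mem (hclass _ g1 r1 v.t1 v.u1) (mul_mem k2
    (mul_mem (hclass _ g3 r3 v.t3 v.u3) (mul_mem k4 (mul_mem (hclass _ g5 r5 v.t5 v.u5) k6))))))
    (hclass _ g7 r7 b B)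

end LargeRee

end CfsgLib.SqDerived
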